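import Cfsg.Agent.QuadStd.Disc
import Mathlib.LinearAlgebra.Matrix.SchurComplement

/-!
Discriminants of the standard forms.
-/

set_option autoImplicit false
set_option linter.style.haveILetI false

namespace CfsgLib.QuadStd

open QuadraticMap CfsgLib.Forms CfsgLib.Quad

variable {F : Type*} [Field F]

theorem det_swap_blocks (m : ℕ) :
    (Matrix.fromBlocks (0 : Matrix (Fin m) (Fin m) F) (1 : Matrix (Fin m) (Fin m) F)
      (1 : Matrix (Fin m) (Fin m) F) 0).det = (-1) ^ m := by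
  have h : Matrix.fromBlocks (0 : Matrix (Fin m) (Fin m) F) (1 : Matrix (Fin m) (Fin m) F)
      (1 : Matrix (Fin m) (Fin m) F) 0 =
      Matrix.fromBlocks 1 1 0 1 * Matrix.fromBlocks (-1) 0 1 1 * Matrix.fromBlocks 1 (-1) 0 1 := by
    rw [Matrix.fromBlocks_multiply, Matrix.fromBlocks_multiply]
    simp
  rw [h, Matrix.det_mul, Matrix.det_mul, Matrix.det_fromBlocks_zero₂₁, Matrix.det_fromBlocks_zero₁₂,
    Matrix.det_fromBlocks_zero₂₁]
  simp [Matrix.det_neg]

theorem gram_plus (m : ℕ) : gram (plusQ (F := F) m) (Pi.basisFun F (Fin m ⊕ Fin m)) =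
    Matrix.fromBlocks 0 1 1 0 := by
  ext (i | i) (j | j) <;> simp [gram, plusQ_coe, plus_polar, Pi.single_apply, Matrix.one_apply, eq_comm]

theorem gram_minus (m : ℕ) (a c : F) :
    (gram (minusQ m a c) (Pi.basisFun F ((Fin m ⊕ Fin m) ⊕ Fin 2))).det = (-1) ^ m * (4 * c - a ^ 2) := by
  have h : gram (minusQ m a c) (Pi.basisFun F ((Fin m ⊕ Fin m) ⊕ Fin 2)) =
      Matrix.fromBlocks (Matrix.fromBlocks 0 1 1 0) 0 0 !![2, a; a, 2 * c] := by
    ext ((i | i) | i) ((j | j) | j) <;> try fin_cases i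
    all_goals try fin_cases j
    all_goals simp [gram, minusQ_coe, minus_polar, Pi.single_apply, Matrix.one_apply, eq_comm]
  rw [h, Matrix.det_fromBlocks_zero₂₁, det_swap_blocks, Matrix.det_fin_two_of]
  ring

theorem isSquare_neg_one_pow_iff [Fintype F] {q : ℕ} (hF : Fintype.card F = q) (hq : Odd q) (m : ℕ) :
    IsSquare ((-1 : F) ^ m) ↔ Even (m * (q - 1) / 2) := by
  obtain ⟨k, rfl⟩ := hq
  rw [show m * (2 * k + 1 - 1) / 2 = m * k by
    rw [Nat.add_sub_cancel, show m * (2 * k) = 2 * (m * k) by ring]; omega, Nat.even_mul]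
  rcases Nat.even_or_odd m with hm | hm
  · rw [hm.neg_one_pow]
    exact iff_of_true IsSquare.one (Or.inl hm)
  · rw [hm.neg_one_pow, FiniteField.isSquare_neg_one_iff, hF, Nat.even_iff, Nat.even_iff]
    rw [Nat.odd_iff] at hm
    omega

theorem isSquare_mul_nonsquare_iff [Finite F] (h2 : (2 : F) ≠ 0) {x d : F} (hx : x ≠ 0)
    (hd : ¬ IsSquare d) : IsSquare (x * d) ↔ ¬ IsSquare x := by
  constructor
  · rintro ⟨r, hr⟩ ⟨s, rfl⟩
    have hs : s ≠ 0 := by rintro rfl; simp at hx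
    exact hd ⟨r / s, by field_simp; linear_combination hr⟩
  · intro hxs
    obtain ⟨r, hr⟩ := isSquare_div_of_nonsquare h2 hxs hd
    have hd0 : d ≠ 0 := by rintro rfl; exact hd ⟨0, by simp⟩
    refine ⟨r * d, ?_⟩
    field_simp at hr
    linear_combination d * hr

end CfsgLib.QuadStd
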