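import Cfsg.Agent.Quad.Concrete
import Cfsg.Agent.Quad.PerpSpace
import Mathlib.LinearAlgebra.Dimension.Constructions

/-!
Witt decomposition of non-degenerate quadratic forms over finite fields.
-/

set_option autoImplicit false
set_option linter.style.haveILetI false

namespace CfsgLib.QuadStd

open QuadraticMap CfsgLib.Forms CfsgLib.Quad

variable {F : Type*} [Field F] {V : Type*} [AddCommGroup V] [Module F V] [FiniteDimensional F V]

theorem exists_polar_one {Q : QuadraticForm F V} (hQ : (polarBilin Q).Nondegenerate) {v : V}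
    (hv : v ≠ 0) : ∃ w, polar Q v w = 1 := by
  by_contra hc
  push Not at hc
  refine hv (hQ.1 v fun y => ?_)
  by_contra hy
  refine hc ((polar Q v y)⁻¹ • y) ?_
  rw [polar_smul_right, smul_eq_mul, inv_mul_cancel₀ (by simpa using hy)]

/-- A singular vector exists in dimension at least three. -/
theorem exists_sing [Finite F] {Q : QuadraticForm F V} (hQ : (polarBilin Q).Nondegenerate)
    (h3 : 3 ≤ Module.finrank F V) : ∃ v, v ≠ 0 ∧ Q v = 0 := by
  by_cases h2 : (2 : F) = 0
  · haveI : CharP F 2 := CharTwo.of_one_ne_zero_of_two_eq_zero one_ne_zero h2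
    exact exists_singular Q h3
  obtain ⟨v, w, hv, hw, hvw⟩ := exists_orth_pair hQ (by omega)
  have hlt : Module.finrank F (Submodule.span F {v, w}) ≤ 2 := by
    classical
    refine (finrank_span_le_card (R := F) ({v, w} : Set V)).trans ?_
    simp only [Set.toFinset_insert, Set.toFinset_singleton]
    exact Finset.card_le_two
  have hp := finrank_perpS hQ (Submodule.span F {v, w})
  obtain ⟨x, hx, hx0⟩ := (perpS Q (Submodule.span F {v, w})).exists_mem_ne_zero_of_ne_bot (by
    intro e; rw [e, finrank_bot] at hp; omega)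
  by_cases hQx : Q x = 0
  · exact ⟨x, hx0, hQx⟩
  obtain ⟨s, t, hst⟩ := exists_binary h2 hv hw (-(Q x))
  have hxv : polar Q v x = 0 := hx v (Submodule.subset_span (Set.mem_insert _ _))
  have hxw : polar Q w x = 0 := hx w (Submodule.subset_span (Set.mem_insert_of_mem _ rfl))
  refine ⟨s • v + t • w + x, fun e => ?_, ?_⟩
  · have := congrArg (fun z => polar Q x z) e
    simp only [polar_add_right, polar_smul_right, polar_comm (⇑Q) x v, polar_comm (⇑Q) x w, hxv, hxw,
      smul_zero, zero_add, polar_self, polar_zero_right] at this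
    rw [nsmul_eq_mul, Nat.cast_ofNat] at this
    exact hQx ((mul_eq_zero.mp this).resolve_left h2)
  · rw [quad_add, quad_add, quad_smul, quad_smul, polar_add_left, polar_smul_left, polar_smul_left,
      polar_smul_left, polar_smul_right, hxv, hxw, hvw]
    simp only [smul_zero, add_zero]
    linear_combination hst

/-- A singular vector splits off a hyperbolic plane. -/
theorem split_plane {Q : QuadraticForm F V} (hQ : (polarBilin Q).Nondegenerate) {e : V}
    (he0 : e ≠ 0) (he : Q e = 0) :
    ∃ (W : Submodule F V) (φ : V ≃ₗ[F] (F × F) × W),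
      (∀ v, Q v = (φ v).1.1 * (φ v).1.2 + Q ((φ v).2 : V)) ∧
      (polarBilin (Q.comp W.subtype)).Nondegenerate ∧
      Module.finrank F V = 2 + Module.finrank F W := by
  obtain ⟨f0, hf0⟩ := exists_polar_one hQ he0
  have hee : polar Q e e = 0 := by rw [polar_self, he, smul_zero]
  set f := f0 + (-(Q f0)) • e with hfdef
  have hef : polar Q e f = 1 := by rw [hfdef, polar_add_right, polar_smul_right, hf0, hee, smul_zero, add_zero]
  have hf : Q f = 0 := by
    rw [hfdef, quad_add, quad_smul, he, polar_smul_right, polar_comm, hf0, smul_eq_mul]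
    ring
  have hfe : polar Q f e = 1 := by rw [polar_comm]; exact hef
  have hff : polar Q f f = 0 := by rw [polar_self, hf, smul_zero]
  let W : Submodule F V := LinearMap.ker (polarFun Q e) ⊓ LinearMap.ker (polarFun Q f)
  have hW : ∀ w : W, polar Q (w : V) e = 0 ∧ polar Q (w : V) f = 0 := fun w => w.2
  let π : V →ₗ[F] V := LinearMap.id - (polarFun Q f).smulRight e - (polarFun Q e).smulRight f
  have hπ : ∀ v, π v = v - polar Q v f • e - polar Q v e • f := fun v => rfl
  have hπW : ∀ v, π v ∈ W := fun v => by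
    refine ⟨?_, ?_⟩ <;>
    · show polar Q (π v) _ = 0
      simp only [hπ, polar_sub_left, polar_smul_left, hee, hfe, hef, hff, smul_eq_mul]
      ring
  let φ : V ≃ₗ[F] (F × F) × W :=
    { ((polarFun Q f).prod (polarFun Q e)).prod (π.codRestrict W hπW) with
      invFun := fun p => p.1.1 • e + p.1.2 • f + (p.2 : V)
      left_inv := fun v => by
        show polar Q v f • e + polar Q v e • f + (v - polar Q v f • e - polar Q v e • f) = v
        abel
      right_inv := fun p => by
        refine Prod.ext (Prod.ext ?_ ?_) (Subtype.ext ?_)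
        · show polar Q _ f = p.1.1
          simp [polar_add_left, polar_smul_left, hef, hff, (hW p.2).2]
        · show polar Q _ e = p.1.2
          simp [polar_add_left, polar_smul_left, hfe, hee, (hW p.2).1]
        · show π _ = (p.2 : V)
          simp only [hπ, polar_add_left, polar_smul_left, hef, hff, hfe, hee, (hW p.2).1, (hW p.2).2,
            smul_eq_mul, mul_one, mul_zero, zero_add, add_zero]
          abel }
  refine ⟨W, φ, fun v => ?_, ?_, ?_⟩
  · have hv := φ.symm_apply_apply v
    conv_lhs => rw [← hv]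
    show Q ((φ v).1.1 • e + (φ v).1.2 • f + ((φ v).2 : V)) = _
    rw [quad_add, quad_add, quad_smul, quad_smul, he, hf, polar_add_left, polar_smul_left,
      polar_smul_left, polar_smul_left, polar_smul_right, hef,
      polar_comm (⇑Q) e, polar_comm (⇑Q) f, (hW _).1, (hW _).2]
    simp only [smul_eq_mul]
    ring
  · have h1 : ∀ w : W, (∀ u : W, polar Q (w : V) (u : V) = 0) → w = 0 := fun w hw => by
      refine Subtype.ext (hQ.1 _ fun y => ?_)
      rw [polarBilin_apply_apply, ← φ.symm_apply_apply y]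
      show polar Q (w : V) ((φ y).1.1 • e + (φ y).1.2 • f + ((φ y).2 : V)) = 0
      rw [polar_add_right, polar_add_right, polar_smul_right, polar_smul_right, (hW w).1, (hW w).2,
        hw, smul_zero, smul_zero, add_zero, add_zero]
    have hp : ∀ w u : W, polar (Q.comp W.subtype) w u = polar Q (w : V) (u : V) := fun w u => rfl
    refine ⟨fun w hw => h1 w fun u => hw u, fun u hu => h1 u fun w => ?_⟩
    rw [polar_comm]
    exact hu w
  · rw [φ.finrank_eq, Module.finrank_prod, Module.finrank_prod, Module.finrank_self]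

/-- Witt decomposition: hyperbolic planes plus an anisotropic part of dimension at most two. -/
theorem witt_decomp [Finite F] : ∀ (n : ℕ) {V : Type*} [AddCommGroup V] [Module F V]
    [FiniteDimensional F V] {Q : QuadraticForm F V}, (polarBilin Q).Nondegenerate →
    Module.finrank F V = n →
    ∃ (m : ℕ) (W : Submodule F V) (φ : V ≃ₗ[F] (Fin m ⊕ Fin m → F) × W),
      (∀ v, Q v = plusQ m (φ v).1 + Q ((φ v).2 : V)) ∧ (∀ w ∈ W, Q w = 0 → w = 0) ∧
      (polarBilin (Q.comp W.subtype)).Nondegenerate ∧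
      Module.finrank F W ≤ 2 ∧ n = 2 * m + Module.finrank F W := by
  intro n
  induction n using Nat.strong_induction_on with
  | _ n ih =>
    intro V _ _ _ Q hQ hn
    by_cases hs : ∃ v, v ≠ 0 ∧ Q v = 0
    · obtain ⟨e, he0, he⟩ := hs
      obtain ⟨W, φ, hφ, hWn, hdim⟩ := split_plane hQ he0 he
      obtain ⟨m, U, ψ, hψ, hU, hUn, hU2, hUdim⟩ := ih (Module.finrank F W) (by omega) hWn rfl
      let ι : U ≃ₗ[F] U.map W.subtype := W.equivSubtypeMap U
      have hι : ∀ u : U, ((ι u : U.map W.subtype) : V) = ((u : W) : V) := fun u => rfl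
      let χ : V ≃ₗ[F] (Fin (m + 1) ⊕ Fin (m + 1) → F) × U.map W.subtype :=
        φ.trans <| ((LinearEquiv.refl F (F × F)).prodCongr ψ).trans <|
          (LinearEquiv.prodAssoc F (F × F) (Fin m ⊕ Fin m → F) U).symm.trans <|
            (plusSplit m).symm.prodCongr ι
      refine ⟨m + 1, U.map W.subtype, χ, fun v => ?_, ?_, ?_, ?_, ?_⟩
      · have h1 := hψ (φ v).2
        have h2 := plusSplit_apply m ((plusSplit (F := F) m).symm ((φ v).1, (ψ (φ v).2).1))
        rw [LinearEquiv.apply_symm_apply, hypSum_apply] at h2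
        rw [QuadraticMap.comp_apply, QuadraticMap.comp_apply] at h1
        show Q v = plusQ (m + 1) ((plusSplit m).symm ((φ v).1, (ψ (φ v).2).1)) +
          Q ((ι (ψ (φ v).2).2 : U.map W.subtype) : V)
        rw [← h2, hι, hφ v]
        simp only [Submodule.subtype_apply] at h1
        rw [h1]
        ring
      · rintro _ ⟨u, hu, rfl⟩ h
        rw [hU u hu h, map_zero]
      · refine nondeg_of_equiv ι.symm (fun v => ?_) hUn
        rw [QuadraticMap.comp_apply, QuadraticMap.comp_apply, QuadraticMap.comp_apply]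
        conv_rhs => rw [← ι.apply_symm_apply v]
        rfl
      · rwa [← ι.finrank_eq]
      · rw [← ι.finrank_eq]; omega
    · push Not at hs
      have hle : n ≤ 2 := by
        by_contra h
        obtain ⟨v, hv0, hv⟩ := exists_sing hQ (by omega)
        exact hs v hv0 hv
      refine ⟨0, ⊤, Submodule.topEquiv.symm.trans (LinearEquiv.uniqueProd
        (R := F) (M₂ := Fin 0 ⊕ Fin 0 → F)).symm, fun v => ?_, fun w _ h => by_contra fun hw => hs w hw h,
        ?_, by rw [finrank_top, hn]; exact hle, by rw [finrank_top, hn]; omega⟩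
      · simp [plusQ_coe, Cfsg.quadFormPlus]
      · exact nondeg_of_equiv Submodule.topEquiv (fun v => rfl) hQ

/-- The binary anisotropic normal form. -/
theorem plane_normal [Finite F] {Q : QuadraticForm F V} (hQ : (polarBilin Q).Nondegenerate)
    (h2 : Module.finrank F V = 2) (han : ∀ v, Q v = 0 → v = 0) :
    ∃ (ζ : F) (φ : V ≃ₗ[F] (Fin 2 → F)), (∀ t : F, t ^ 2 + t + ζ ≠ 0) ∧
      ∀ v, Q v = φ v 0 ^ 2 + φ v 0 * φ v 1 + ζ * φ v 1 ^ 2 := by
  haveI : Nontrivial V := Module.nontrivial_of_finrank_eq_succ h2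
  obtain ⟨x, hx⟩ : ∃ x, Q x = 1 := by
    by_cases h : (2 : F) = 0
    · haveI : CharP F 2 := CharTwo.of_one_ne_zero_of_two_eq_zero one_ne_zero h
      obtain ⟨v, hv⟩ := exists_ne (0 : V)
      obtain ⟨c, hc⟩ : IsSquare (Q v)⁻¹ := FiniteField.isSquare_of_char_two (ringChar.eq F 2) _
      exact ⟨c • v, by rw [quad_smul, ← hc, inv_mul_cancel₀ fun e => hv (han v e)]⟩
    · obtain ⟨v, w, hv, hw, hvw⟩ := exists_orth_pair hQ h2.ge
      obtain ⟨s, t, hst⟩ := exists_binary h hv hw 1
      exact ⟨s • v + t • w, by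
        rw [quad_add, quad_smul, quad_smul, polar_smul_left, polar_smul_right, hvw]
        simp only [smul_zero, add_zero]
        linear_combination hst⟩
  have hx0 : x ≠ 0 := fun e => by rw [e, QuadraticMap.map_zero] at hx; exact zero_ne_one hx
  obtain ⟨y0, hy0⟩ := exists_polar_one hQ hx0
  obtain ⟨y, hy, hyx⟩ : ∃ y, polar Q x y = 1 ∧ y ∉ Submodule.span F {x} := by
    by_cases hyx : y0 ∈ Submodule.span F {x}
    · obtain ⟨z, hz⟩ : ∃ z, z ∉ Submodule.span F {x} := by
        by_contra hc
        push Not at hc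
        have := finrank_span_singleton (K := F) hx0
        rw [Submodule.eq_top_iff'.mpr hc, finrank_top] at this
        omega
      refine ⟨z + (1 - polar Q x z) • y0, by rw [polar_add_right, polar_smul_right, hy0, smul_eq_mul]; ring,
        fun h => hz ?_⟩
      simpa using Submodule.sub_mem _ h (Submodule.smul_mem _ (1 - polar Q x z) hyx)
    · exact ⟨y0, hy0, hyx⟩
  have hli : LinearIndependent F ![x, y] :=
    (LinearIndependent.pair_iff' hx0).mpr fun a ha => hyx (ha ▸ Submodule.smul_mem _ a (Submodule.mem_span_singleton_self x))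
  let b := basisOfLinearIndependentOfCardEqFinrank hli (by simp [h2])
  have hb : ∀ c : Fin 2 → F, b.equivFun.symm c = c 0 • x + c 1 • y := fun c => by
    rw [Module.Basis.equivFun_symm_apply, Fin.sum_univ_two]
    simp [b]
  have hval : ∀ s t : F, Q (s • x + t • y) = s ^ 2 + s * t + Q y * t ^ 2 := fun s t => by
    rw [quad_add, quad_smul, quad_smul, hx, polar_smul_left, polar_smul_right, hy, smul_eq_mul,
      smul_eq_mul]
    ring
  refine ⟨Q y, b.equivFun, fun t ht => ?_, fun v => ?_⟩
  · have h := han (t • x + (1 : F) • y) (by rw [hval]; linear_combination ht)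
    exact one_ne_zero ((LinearIndependent.pair_iff.mp hli t 1 h).2)
  · conv_lhs => rw [← b.equivFun.symm_apply_apply v, hb, hval]

theorem plane_aniso {ζ : F} (hζ : ∀ t : F, t ^ 2 + t + ζ ≠ 0) :
    ∀ z₁ z₂ : F, z₁ ^ 2 + 1 * z₁ * z₂ + ζ * z₂ ^ 2 = 0 → z₁ = 0 ∧ z₂ = 0 := by
  intro z₁ z₂ h
  by_cases hz : z₂ = 0
  · subst hz; simpa using h
  · refine absurd ?_ (hζ (z₁ / z₂))
    field_simp
    linear_combination h

/-- Non-degenerate forms of even dimension are of plus or minus type. -/
theorem classify_even [Finite F] {Q : QuadraticForm F V} (hQ : (polarBilin Q).Nondegenerate) {m : ℕ}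
    (hV : Module.finrank F V = 2 * m) :
    (∃ φ : V ≃ₗ[F] (Fin m ⊕ Fin m → F), ∀ v, Q v = plusQ m (φ v)) ∨
    ∃ (ζ : F) (φ : V ≃ₗ[F] ((Fin (m - 1) ⊕ Fin (m - 1)) ⊕ Fin 2 → F)), 1 ≤ m ∧
      (∀ t : F, t ^ 2 + t + ζ ≠ 0) ∧ ∀ v, Q v = minusQ (m - 1) 1 ζ (φ v) := by
  obtain ⟨k, W, φ, hφ, hW, hWn, hW2, hdim⟩ := witt_decomp _ hQ hV
  rcases (by omega : Module.finrank F W = 0 ∨ Module.finrank F W = 2) with h | h
  · left
    obtain rfl : k = m := by omega
    have hW0 : Subsingleton W := Module.finrank_zero_iff.mp h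
    letI : Unique W := uniqueOfSubsingleton 0
    refine ⟨φ.trans LinearEquiv.prodUnique, fun v => ?_⟩
    rw [hφ, show (φ v).2 = 0 from Subsingleton.elim _ _]
    simp
  · right
    obtain rfl : k = m - 1 := by omega
    obtain ⟨ζ, ψ, hζ, hψ⟩ := plane_normal hWn h fun w hw => Subtype.ext (hW w w.2 hw)
    refine ⟨ζ, φ.trans (((LinearEquiv.refl F _).prodCongr ψ).trans
      (LinearEquiv.sumArrowLequivProdArrow (Fin (m - 1) ⊕ Fin (m - 1)) (Fin 2) F F).symm),
      by omega, hζ, fun v => ?_⟩
    rw [hφ, minusQ_coe, plusQ_coe]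
    have := hψ (φ v).2
    rw [QuadraticMap.comp_apply, Submodule.subtype_apply] at this
    rw [this]
    simp [Cfsg.quadFormMinus, Cfsg.quadFormPlus]

/-- Non-degenerate forms of odd dimension. -/
theorem classify_odd [Finite F] {Q : QuadraticForm F V} (hQ : (polarBilin Q).Nondegenerate) {m : ℕ}
    (hV : Module.finrank F V = 2 * m + 1) :
    ∃ (c : F) (φ : V ≃ₗ[F] (Unit ⊕ (Fin m ⊕ Fin m) → F)), c ≠ 0 ∧ (2 : F) ≠ 0 ∧
      ∀ v, Q v = c * φ v (Sum.inl ()) ^ 2 + Cfsg.quadFormPlus m F (φ v ∘ Sum.inr) := by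
  obtain ⟨k, W, φ, hφ, hW, hWn, hW2, hdim⟩ := witt_decomp _ hQ hV
  have h : Module.finrank F W = 1 := by omega
  obtain rfl : k = m := by omega
  haveI : Nontrivial W := Module.nontrivial_of_finrank_eq_succ h
  obtain ⟨w, hw⟩ := exists_ne (0 : W)
  let b := FiniteDimensional.basisSingleton Unit h w hw
  refine ⟨Q (w : V), φ.trans ((LinearEquiv.prodComm F _ _).trans
    ((b.equivFun.prodCongr (LinearEquiv.refl F _)).trans
      (LinearEquiv.sumArrowLequivProdArrow Unit (Fin k ⊕ Fin k) F F).symm)),
    fun e => hw (Subtype.ext (hW w w.2 e)), fun h2 => hw (hWn.1 w fun u => ?_), fun v => ?_⟩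
  · rw [← b.sum_repr u]
    simp only [Finset.univ_unique, Finset.sum_singleton, map_smul]
    simp [b, polar_self, h2]
  · rw [hφ, plusQ_coe, add_comm]
    conv_lhs => rw [← b.sum_repr (φ v).2]
    simp only [Finset.univ_unique, Finset.sum_singleton, Submodule.coe_smul, quad_smul]
    simp [b, pow_two]
    ring_nf
    congr 1

end CfsgLib.QuadStd
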