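import Cfsg.Agent.QuadStd.Std

/-!
Quadratic forms over the field with two elements polarizing to the standard alternating form.
-/

set_option autoImplicit false
set_option linter.style.haveILetI false

namespace CfsgLib.QuadStd.Two

open QuadraticMap CfsgLib.Forms CfsgLib.Quad

variable {m : ℕ}

/-- The quadratic condition used in the statements. -/
def Polarizes (m : ℕ) (q : (Fin m ⊕ Fin m → ZMod 2) → ZMod 2) : Prop :=
  ∀ u v : Fin m ⊕ Fin m → ZMod 2, q (u + v) = q u + q v + (Cfsg.quadFormPlus m (ZMod 2) (u + v) -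
    Cfsg.quadFormPlus m (ZMod 2) u - Cfsg.quadFormPlus m (ZMod 2) v)

theorem sq_eq (a : ZMod 2) : a * a = a := by revert a; decide

theorem add_self (a : ZMod 2) : a + a = 0 := by revert a; decide

/-- Standard form plus a linear form. -/
def qw (w : Fin m ⊕ Fin m → ZMod 2) : QuadraticForm (ZMod 2) (Fin m ⊕ Fin m → ZMod 2) :=
  plusQ m + LinearMap.BilinMap.toQuadraticMap ((LinearMap.mul (ZMod 2) (ZMod 2)).compl₁₂
    ((polarBilin (plusQ m)).flip w) ((polarBilin (plusQ m)).flip w))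

theorem qw_apply (w v : Fin m ⊕ Fin m → ZMod 2) :
    qw w v = Cfsg.quadFormPlus m (ZMod 2) v + polar (Cfsg.quadFormPlus m (ZMod 2)) v w := by
  rw [← plusQ_coe]
  simp [qw, sq_eq]

theorem qw_polar (w u v : Fin m ⊕ Fin m → ZMod 2) :
    polar (qw w) u v = polar (Cfsg.quadFormPlus m (ZMod 2)) u v := by
  have h := polar_add_left (plusQ (F := ZMod 2) m) u v w
  rw [plusQ_coe] at h
  simp only [polar, qw_apply] at h ⊢
  linear_combination h

theorem qw_nondeg (w : Fin m ⊕ Fin m → ZMod 2) : (polarBilin (qw w)).Nondegenerate := by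
  have h : polarBilin (qw w) = polarBilin (plusQ m) := LinearMap.ext₂ fun u v => by
    rw [polarBilin_apply_apply, polarBilin_apply_apply, qw_polar, plusQ_coe]
  rw [h]; exact plusQ_nondeg m

theorem polarizes_qw (w : Fin m ⊕ Fin m → ZMod 2) : Polarizes m (qw w) := by
  intro u v
  rw [show Cfsg.quadFormPlus m (ZMod 2) (u + v) - Cfsg.quadFormPlus m (ZMod 2) u -
    Cfsg.quadFormPlus m (ZMod 2) v = polar (Cfsg.quadFormPlus m (ZMod 2)) u v from rfl, ← qw_polar w,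
    quad_add]

theorem exists_w {q : (Fin m ⊕ Fin m → ZMod 2) → ZMod 2} (hq : Polarizes m q) :
    ∃ w, ∀ v, q v = qw w v := by
  let l : (Fin m ⊕ Fin m → ZMod 2) →+ ZMod 2 :=
    AddMonoidHom.mk' (fun v => q v - Cfsg.quadFormPlus m (ZMod 2) v) fun u v => by
      show q (u + v) - _ = _
      rw [hq u v]; ring
  obtain ⟨w, hw⟩ := (polarForm (plusQ (F := ZMod 2) m)).exists_h_eq (polarForm_nondeg (plusQ_nondeg m))
    (l.toZModLinearMap 2)
  refine ⟨w, fun v => ?_⟩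
  have h : polar (plusQ (F := ZMod 2) m) v w = q v - Cfsg.quadFormPlus m (ZMod 2) v := by
    rw [← polarForm_h, hw]; rfl
  rw [qw_apply, ← plusQ_coe, h, plusQ_coe]; ring

theorem qw_injective : Function.Injective fun w : Fin m ⊕ Fin m → ZMod 2 => ⇑(qw w) := by
  intro a b h
  refine sub_eq_zero.mp ((plusQ_nondeg (F := ZMod 2) m).2 _ fun v => ?_)
  have := congrFun h v
  simp only [qw_apply] at this
  rw [polarBilin_apply_apply, polar_sub_right, plusQ_coe]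
  exact sub_eq_zero.mpr (add_left_cancel this)

theorem translate_equiv {q : (Fin m ⊕ Fin m → ZMod 2) → ZMod 2} (hq : Polarizes m q)
    {w : Fin m ⊕ Fin m → ZMod 2} (hw : q w = 0) :
    ∃ g : (Fin m ⊕ Fin m → ZMod 2) ≃ₗ[ZMod 2] (Fin m ⊕ Fin m → ZMod 2),
      ∀ v, q v + polar (Cfsg.quadFormPlus m (ZMod 2)) v w = q (g v) := by
  set φ : Module.Dual (ZMod 2) (Fin m ⊕ Fin m → ZMod 2) := (polarBilin (plusQ m)).flip w with hφ
  have hφa : ∀ v, φ v = polar (Cfsg.quadFormPlus m (ZMod 2)) v w := fun v => by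
    rw [hφ, ← plusQ_coe]; rfl
  have hφw : φ w = 0 := by
    show polar (plusQ m) w w = 0
    rw [polar_self, two_smul, add_self]
  let T : (Fin m ⊕ Fin m → ZMod 2) →ₗ[ZMod 2] (Fin m ⊕ Fin m → ZMod 2) := LinearMap.id + φ.smulRight w
  have hT : Function.Involutive T := fun v => by
    simp only [T, LinearMap.add_apply, LinearMap.id_apply, LinearMap.smulRight_apply, map_add, map_smul,
      hφw, smul_zero, zero_smul, add_zero]
    rw [add_assoc, ← add_smul, add_self, zero_smul, add_zero]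
  refine ⟨LinearEquiv.ofInvolutive T hT, fun v => ?_⟩
  show q v + _ = q (v + φ v • w)
  rw [hq, show Cfsg.quadFormPlus m (ZMod 2) (v + φ v • w) - Cfsg.quadFormPlus m (ZMod 2) v -
    Cfsg.quadFormPlus m (ZMod 2) (φ v • w) = polar (Cfsg.quadFormPlus m (ZMod 2)) v (φ v • w) from rfl,
    ← plusQ_coe, polar_smul_right, plusQ_coe, ← hφa, smul_eq_mul, sq_eq]
  rcases (by decide : ∀ a : ZMod 2, a = 0 ∨ a = 1) (φ v) with e | e <;> rw [e]
  · have h0 : q 0 = 0 := by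
      obtain ⟨w', hw'⟩ := exists_w hq
      rw [hw', QuadraticMap.map_zero]
    rw [zero_smul, h0]; ring
  · rw [one_smul, hw]; ring

theorem zeta_one {ζ : ZMod 2} (h : ∀ t : ZMod 2, t ^ 2 + t + ζ ≠ 0) : ζ = 1 := by
  have := h 0
  revert this; revert ζ; decide

theorem one_aniso : ∀ z₁ z₂ : ZMod 2, z₁ ^ 2 + 1 * z₁ * z₂ + 1 * z₂ ^ 2 = 0 → z₁ = 0 ∧ z₂ = 0 := by
  decide

theorem card_space : Nat.card (Fin m ⊕ Fin m → ZMod 2) = 2 ^ (2 * m) := by
  rw [Nat.card_fun, Nat.card_sum, Nat.card_fin, Nat.card_zmod, two_mul]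

theorem card_plus (hm : 1 ≤ m) :
    Nat.card {v // Cfsg.quadFormPlus m (ZMod 2) v = 0} = 2 ^ (2 * m - 1) + 2 ^ (m - 1) := by
  have h := zeros_plus (F := ZMod 2) (Nat.card_zmod 2) m
  rw [plusQ_coe] at h
  obtain ⟨k, rfl⟩ := Nat.exists_eq_add_of_le' hm
  rw [show 2 * (k + 1) - 1 = 2 * k + 1 by omega, Nat.add_sub_cancel]
  have h' : (2 : ℤ) * Nat.card {v // Cfsg.quadFormPlus (k + 1) (ZMod 2) v = 0} = 2 * ((2 : ℤ) ^ (2 * k + 1) + 2 ^ k) := by
    push_cast at h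
    linear_combination h
  exact_mod_cast mul_left_cancel₀ two_ne_zero h'

theorem card_minus (hm : 1 ≤ m) :
    Nat.card {v // Cfsg.quadFormMinus (m - 1) (ZMod 2) 1 1 v = 0} + 2 ^ (m - 1) = 2 ^ (2 * m - 1) := by
  have h := zeros_minus (F := ZMod 2) (Nat.card_zmod 2) one_aniso (m - 1)
  rw [minusQ_coe] at h
  obtain ⟨k, rfl⟩ := Nat.exists_eq_add_of_le' hm
  rw [show 2 * (k + 1) - 1 = 2 * k + 1 by omega]
  rw [show k + 1 - 1 = k from rfl] at *
  have h' : (2 : ℤ) * ((Nat.card {v // Cfsg.quadFormMinus k (ZMod 2) 1 1 v = 0} : ℤ) + 2 ^ k) = 2 * (2 : ℤ) ^ (2 * k + 1) := by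
    push_cast at h
    linear_combination h
  exact_mod_cast mul_left_cancel₀ two_ne_zero h'

theorem card_zero_congr {V W : Type*} [AddCommGroup V] [Module (ZMod 2) V] [AddCommGroup W]
    [Module (ZMod 2) W] {q : V → ZMod 2} {P : W → ZMod 2} (g : V ≃ₗ[ZMod 2] W) (h : ∀ v, q v = P (g v)) :
    Nat.card {v // q v = 0} = Nat.card {v // P v = 0} :=
  Nat.card_congr (Equiv.subtypeEquiv g.toEquiv fun v => by rw [h]; rfl)

theorem card_shift {q : (Fin m ⊕ Fin m → ZMod 2) → ZMod 2} (hq : Polarizes m q)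
    {w : Fin m ⊕ Fin m → ZMod 2} (hw : q w = 1) :
    Nat.card {v // q v + polar (Cfsg.quadFormPlus m (ZMod 2)) v w = 0} + Nat.card {v // q v = 0} =
      2 ^ (2 * m) := by
  classical
  have h1 : ∀ v, q v + polar (Cfsg.quadFormPlus m (ZMod 2)) v w = q (v + w) + 1 := fun v => by
    rw [hq v w, hw]
    simp only [polar]
    linear_combination -(add_self (1 : ZMod 2))
  have e : Nat.card {v // q v + polar (Cfsg.quadFormPlus m (ZMod 2)) v w = 0} = Nat.card {v // ¬ q v = 0} :=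
    Nat.card_congr (Equiv.subtypeEquiv (Equiv.addRight w) fun v => by
      rw [h1]
      show _ ↔ ¬ q (v + w) = 0
      generalize q (v + w) = a
      revert a; decide)
  rw [e, add_comm, ← Nat.card_sum, Nat.card_congr (Equiv.sumCompl _), card_space]

theorem isometric_cases (hm : 1 ≤ m) (w : Fin m ⊕ Fin m → ZMod 2) :
    (∃ g : (Fin m ⊕ Fin m → ZMod 2) ≃ₗ[ZMod 2] (Fin m ⊕ Fin m → ZMod 2), ∀ v, qw w v = Cfsg.quadFormPlus m (ZMod 2) (g v)) ∨
    (∃ g : (Fin m ⊕ Fin m → ZMod 2) ≃ₗ[ZMod 2] ((Fin (m - 1) ⊕ Fin (m - 1)) ⊕ Fin 2 → ZMod 2),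
      ∀ v, qw w v = Cfsg.quadFormMinus (m - 1) (ZMod 2) 1 1 (g v)) := by
  rcases classify_even (qw_nondeg w) (m := m) (by simp; omega) with ⟨φ, hφ⟩ | ⟨ζ, φ, -, hζ, hφ⟩
  · exact Or.inl ⟨φ, fun v => by rw [hφ, plusQ_coe]⟩
  · obtain rfl := zeta_one hζ
    exact Or.inr ⟨φ, fun v => by rw [hφ, minusQ_coe]⟩

theorem equiv_iff {q : (Fin m ⊕ Fin m → ZMod 2) → ZMod 2} (hm : 1 ≤ m) (hq : Polarizes m q)
    (w : Fin m ⊕ Fin m → ZMod 2) :
    (∃ g : (Fin m ⊕ Fin m → ZMod 2) ≃ₗ[ZMod 2] (Fin m ⊕ Fin m → ZMod 2),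
      ∀ v, q v + polar (Cfsg.quadFormPlus m (ZMod 2)) v w = q (g v)) ↔ q w = 0 := by
  refine ⟨fun ⟨g, hg⟩ => ?_, translate_equiv hq⟩
  by_contra hw
  have hw1 : q w = 1 := by
    revert hw; generalize q w = a; revert a; decide
  have h1 := card_shift hq hw1
  rw [card_zero_congr g hg] at h1
  obtain ⟨w', hw'⟩ := exists_w hq
  have h2 : q = ⇑(qw w') := funext hw'
  subst h2
  have hp : 2 ^ (2 * m) = 2 * 2 ^ (2 * m - 1) := by rw [← pow_succ']; congr 1; omega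
  have hpos : 0 < 2 ^ (m - 1) := Nat.two_pow_pos _
  rcases isometric_cases hm w' with ⟨φ, hφ⟩ | ⟨φ, hφ⟩
  · rw [card_zero_congr φ hφ, card_plus hm] at h1; omega
  · have h3 := card_minus hm
    rw [card_zero_congr φ hφ] at h1; omega

theorem plus_iff (hm : 1 ≤ m) (w : Fin m ⊕ Fin m → ZMod 2) :
    (∃ g : (Fin m ⊕ Fin m → ZMod 2) ≃ₗ[ZMod 2] (Fin m ⊕ Fin m → ZMod 2), ∀ v, qw w v = Cfsg.quadFormPlus m (ZMod 2) (g v)) ↔
      Cfsg.quadFormPlus m (ZMod 2) w = 0 := by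
  have hq : Polarizes m (Cfsg.quadFormPlus m (ZMod 2)) := fun u v => by ring
  simpa only [qw_apply] using equiv_iff hm hq w

theorem minus_iff (hm : 1 ≤ m) (w : Fin m ⊕ Fin m → ZMod 2) :
    (∃ g : (Fin m ⊕ Fin m → ZMod 2) ≃ₗ[ZMod 2] ((Fin (m - 1) ⊕ Fin (m - 1)) ⊕ Fin 2 → ZMod 2),
      ∀ v, qw w v = Cfsg.quadFormMinus (m - 1) (ZMod 2) 1 1 (g v)) ↔ ¬ Cfsg.quadFormPlus m (ZMod 2) w = 0 := by
  rw [← plus_iff hm]
  refine ⟨fun ⟨g, hg⟩ ⟨g', hg'⟩ => ?_, fun h => (isometric_cases hm w).resolve_left h⟩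
  have h1 := card_zero_congr g hg
  rw [card_zero_congr g' hg', card_plus hm] at h1
  have h2 := card_minus hm
  have hpos : 0 < 2 ^ (m - 1) := Nat.two_pow_pos _
  omega

end CfsgLib.QuadStd.Two
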