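import Cfsg.Agent.QuadStd.Std

/-!
Forms over fields of odd order are determined by the discriminant.
-/

set_option autoImplicit false
set_option linter.style.haveILetI false

namespace CfsgLib.QuadStd

open QuadraticMap CfsgLib.Forms CfsgLib.Quad

variable {F : Type*} [Field F] [Finite F] {V W : Type*} [AddCommGroup V] [Module F V]
  [FiniteDimensional F V] [AddCommGroup W] [Module F W] [FiniteDimensional F W]

theorem det_gram_orth {n : ℕ} (Q : QuadraticForm F V) (u : Fin (n + 1) → V)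
    (ho : ∀ i j, i ≠ j → polar Q (u i) (u j) = 0)
    (he : ∀ i, i ≠ Fin.last n → polar Q (u i) (u i) = 1) :
    (gram Q u).det = polar Q (u (Fin.last n)) (u (Fin.last n)) := by
  have hdiag : gram Q u = Matrix.diagonal fun i => polar Q (u i) (u i) := by
    ext i j
    by_cases h : i = j
    · subst h; simp [gram]
    · simp [gram, h, ho i j h]
  rw [hdiag, Matrix.det_diagonal, Finset.prod_eq_single (Fin.last n) (fun i _ hi => he i hi) (by simp)]

theorem isometric_of_disc (h2 : (2 : F) ≠ 0) {n : ℕ} {Q₁ : QuadraticForm F V} {Q₂ : QuadraticForm F W}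
    (h₁ : (polarBilin Q₁).Nondegenerate) (h₂ : (polarBilin Q₂).Nondegenerate)
    (b : Module.Basis (Fin n) F V) (c : Module.Basis (Fin n) F W)
    (hd : IsSquare ((gram Q₁ b).det * (gram Q₂ c).det)) :
    ∃ g : V ≃ₗ[F] W, ∀ v, Q₂ (g v) = Q₁ v := by
  cases n with
  | zero =>
    refine ⟨b.equiv c (Equiv.refl _), fun v => ?_⟩
    have hv : v = 0 := by rw [← b.sum_repr v]; simp
    subst hv; simp
  | succ n =>
    haveI := Fintype.ofFinite F
    have hchar : ringChar F ≠ 2 := fun h => h2 (by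
      haveI : CharP F 2 := ringChar.of_eq h
      exact CharP.cast_eq_zero F 2)
    obtain ⟨α, hα⟩ := FiniteField.exists_nonsquare (F := F) hchar
    have hs₁ : LinearMap.BilinForm.IsSymm (polarBilin Q₁) := ⟨fun x y => polar_comm _ _ _⟩
    have hs₂ : LinearMap.BilinForm.IsSymm (polarBilin Q₂) := ⟨fun x y => polar_comm _ _ _⟩
    obtain ⟨b₁, o1, e1, l1⟩ := exists_symm_basis h2 hα n V _ hs₁ h₁ (by rw [Module.finrank_eq_card_basis b, Fintype.card_fin])
    obtain ⟨c₁, o2, e2, l2⟩ := exists_symm_basis h2 hα n W _ hs₂ h₂ (by rw [Module.finrank_eq_card_basis c, Fintype.card_fin])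
    simp only [polarBilin_apply_apply] at o1 e1 l1 o2 e2 l2
    obtain ⟨t₁, ht₁, q1⟩ := det_gram_basis Q₁ b b₁
    obtain ⟨t₂, ht₂, q2⟩ := det_gram_basis Q₂ c c₁
    rw [q1, q2, show t₁ ^ 2 * (gram Q₁ b₁).det * (t₂ ^ 2 * (gram Q₂ c₁).det) =
      (t₁ * t₂) ^ 2 * ((gram Q₁ b₁).det * (gram Q₂ c₁).det) by ring,
      isSquare_mul_sq_iff (mul_ne_zero ht₁ ht₂), det_gram_orth Q₁ _ o1 e1, det_gram_orth Q₂ _ o2 e2] at hd
    have hlast : polar Q₁ (b₁ (Fin.last n)) (b₁ (Fin.last n)) = polar Q₂ (c₁ (Fin.last n)) (c₁ (Fin.last n)) := by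
      rcases l1 with l1 | l1 <;> rcases l2 with l2 | l2 <;> rw [l1, l2] at hd ⊢
      · exact absurd (by simpa using hd) hα
      · exact absurd (by simpa using hd) hα
    refine ⟨b₁.equiv c₁ (Equiv.refl _), fun v => ?_⟩
    have hB : (polarBilin Q₂).compl₁₂ (b₁.equiv c₁ (Equiv.refl _)).toLinearMap
        (b₁.equiv c₁ (Equiv.refl _)).toLinearMap = polarBilin Q₁ := by
      refine b₁.ext fun i => b₁.ext fun j => ?_
      simp only [LinearMap.compl₁₂_apply, LinearEquiv.coe_coe, Module.Basis.equiv_apply,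
        Equiv.refl_apply, polarBilin_apply_apply]
      by_cases h : i = j
      · subst h
        by_cases hi : i = Fin.last n
        · rw [hi, hlast]
        · rw [e1 i hi, e2 i hi]
      · rw [o1 i j h, o2 i j h]
    have h := LinearMap.congr_fun (LinearMap.congr_fun hB v) v
    simp only [LinearMap.compl₁₂_apply, polarBilin_apply_apply, polar_self, LinearEquiv.coe_coe,
      nsmul_eq_mul, Nat.cast_ofNat] at h
    exact mul_left_cancel₀ h2 h

theorem isometric_iff (h2 : (2 : F) ≠ 0) {n : ℕ} {Q₁ : QuadraticForm F V} {Q₂ : QuadraticForm F W}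
    (h₁ : (polarBilin Q₁).Nondegenerate) (h₂ : (polarBilin Q₂).Nondegenerate)
    (b : Module.Basis (Fin n) F V) (c : Module.Basis (Fin n) F W) :
    (∃ g : V ≃ₗ[F] W, ∀ v, Q₂ (g v) = Q₁ v) ↔ IsSquare ((gram Q₁ b).det * (gram Q₂ c).det) := by
  refine ⟨fun ⟨g, hg⟩ => ?_, isometric_of_disc h2 h₁ h₂ b c⟩
  obtain ⟨t, -, ht⟩ := det_gram_map g 1 (fun v => by rw [hg, one_mul]) b c
  rw [one_pow, one_mul] at ht
  rw [ht]
  exact ⟨t * (gram Q₂ c).det, by ring⟩

end CfsgLib.QuadStd
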