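import Cfsg.Agent.QuadStd.Gram

/-!
Values and polar values of the standard forms.
-/

set_option autoImplicit false
set_option linter.style.haveILetI false

namespace CfsgLib.QuadStd

open QuadraticMap CfsgLib.Forms CfsgLib.Quad

variable {F : Type*} [Field F]

theorem plus_polar (m : ℕ) (x y : Fin m ⊕ Fin m → F) :
    polar (Cfsg.quadFormPlus m F) x y =
      ∑ i, (x (.inl i) * y (.inr i) + y (.inl i) * x (.inr i)) := by
  simp only [polar, Cfsg.quadFormPlus, Pi.add_apply, ← Finset.sum_sub_distrib]
  exact Finset.sum_congr rfl fun i _ => by ring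

theorem minus_polar (m : ℕ) (a b : F) (x y : (Fin m ⊕ Fin m) ⊕ Fin 2 → F) :
    polar (Cfsg.quadFormMinus m F a b) x y =
      (∑ i, (x (.inl (.inl i)) * y (.inl (.inr i)) + y (.inl (.inl i)) * x (.inl (.inr i)))) +
        (2 * x (.inr 0) * y (.inr 0) + a * (x (.inr 0) * y (.inr 1) + x (.inr 1) * y (.inr 0)) +
          2 * b * x (.inr 1) * y (.inr 1)) := by
  simp only [polar, Cfsg.quadFormMinus, Pi.add_apply]
  rw [show ∀ A B C D E G : F, A + B - (C + D) - (E + G) = (A - C - E) + (B - D - G) from
    fun A B C D E G => by ring, ← Finset.sum_sub_distrib, ← Finset.sum_sub_distrib]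
  congr 1
  · exact Finset.sum_congr rfl fun i _ => by ring
  · ring

theorem polar_of_equiv {V W : Type*} [AddCommGroup V] [Module F V] [AddCommGroup W] [Module F W]
    {Q : V → F} {P : W → F} (φ : V ≃ₗ[F] W) (h : ∀ v, Q v = P (φ v)) (u v : W) :
    polar Q (φ.symm u) (φ.symm v) = polar P u v := by
  simp [polar, ← map_add, h]

end CfsgLib.QuadStd
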