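import Cfsg.Agent.QuadStd.Split

/-!
Orthonormal bases for non-alternating symmetric forms in characteristic two.
-/

set_option autoImplicit false
set_option linter.style.haveILetI false

namespace CfsgLib.QuadStd

open CfsgLib.Forms

theorem exists_orthonormal {F : Type*} [Field F] [Finite F] [CharP F 2] :
    ∀ (n : ℕ) {V : Type*} [AddCommGroup V] [Module F V] [FiniteDimensional F V]
      (B : LinearMap.BilinForm F V), B.IsSymm → B.Nondegenerate → (∃ v, B v v ≠ 0) →
      Module.finrank F V = n + 1 →
      ∃ b : Module.Basis (Fin (n + 1)) F V, ∀ i j, B (b i) (b j) = if i = j then 1 else 0 := by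
  intro n
  induction n with
  | zero =>
    intro V _ _ _ B hS hB ⟨v, hv⟩ hn
    obtain ⟨c, hc⟩ : IsSquare (B v v)⁻¹ := FiniteField.isSquare_of_char_two (ringChar.eq F 2) _
    have h1 : B (c • v) (c • v) = 1 := by
      simp only [map_smul, LinearMap.smul_apply, smul_eq_mul]
      rw [← mul_assoc, ← hc, inv_mul_cancel₀ hv]
    refine ⟨FiniteDimensional.basisSingleton (Fin 1) hn (c • v) (fun e => by simp [e] at h1), fun i j => ?_⟩
    rw [Subsingleton.elim (α := Fin 1) i 0, Subsingleton.elim (α := Fin 1) j 0, if_pos rfl]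
    simpa using h1
  | succ n ih =>
    intro V _ _ _ B hS hB ⟨v₀, hv₀⟩ hn
    obtain ⟨c, hc⟩ : IsSquare (B v₀ v₀)⁻¹ := FiniteField.isSquare_of_char_two (ringChar.eq F 2) _
    set v₁ := c • v₀ with hv₁
    have h1 : B v₁ v₁ = 1 := by
      simp only [hv₁, map_smul, LinearMap.smul_apply, smul_eq_mul]
      rw [← mul_assoc, ← hc, inv_mul_cancel₀ hv₀]
    obtain ⟨v, hvv, x, hx, hxx⟩ : ∃ v, B v v = 1 ∧ ∃ x, B v x = 0 ∧ B x x ≠ 0 := by
      by_cases hW : ∃ x, B v₁ x = 0 ∧ B x x ≠ 0
      · exact ⟨v₁, h1, hW⟩
      push Not at hW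
      have hdim := finrank_ker_add (B v₁) (fun a => ⟨a • v₁, by simp [h1]⟩)
      rw [Module.finrank_self] at hdim
      obtain ⟨e, he, he0⟩ := (LinearMap.ker (B v₁)).exists_mem_ne_zero_of_ne_bot (by
        intro e; rw [e, finrank_bot] at hdim; omega)
      rw [LinearMap.mem_ker] at he
      obtain ⟨y, hy⟩ : ∃ y, B e y ≠ 0 := by
        by_contra hc
        push Not at hc
        exact he0 (hB.1 e hc)
      set f := (B e y)⁻¹ • (y - B v₁ y • v₁) with hf
      have hef : B e f = 1 := by
        simp only [hf, map_smul, map_sub, hS.eq e v₁, he, smul_eq_mul, mul_zero, sub_zero]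
        rw [inv_mul_cancel₀ hy]
      have hvf : B v₁ f = 0 := by
        simp only [hf, map_smul, map_sub, h1, smul_eq_mul, mul_one, sub_self, mul_zero]
      refine ⟨v₁ + e, ?_, v₁ + f, ?_, ?_⟩ <;>
        simp [h1, he, hvf, hef, hS.eq e v₁, hS.eq f v₁, hW e he, hW f hvf, CharTwo.add_self_eq_zero]
    set W : Submodule F V := LinearMap.ker (B v) with hW
    have hdim := finrank_ker_add (B v) (fun a => ⟨a • v, by simp [hvv]⟩)
    rw [← hW, Module.finrank_self] at hdim
    have hperp : ∀ x : W, B (x : V) v = 0 := fun x => by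
      rw [hS.eq, show B v (x : V) = 0 from x.2]
    have hdecomp : ∀ y : V, y - B v y • v ∈ W := fun y => by
      simp [hW, LinearMap.mem_ker, hvv]
    have hBW : (B.restrict W).Nondegenerate := by
      have h1 : ∀ x : W, (∀ y : W, B.restrict W x y = 0) → x = 0 := by
        intro x hx
        refine Subtype.ext (hB.1 x fun y => ?_)
        have := hx ⟨_, hdecomp y⟩
        change B (x : V) (y - B v y • v) = 0 at this
        simpa [hperp] using this
      refine ⟨h1, fun y hy => h1 y fun x => ?_⟩
      change B (y : V) (x : V) = 0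
      rw [hS.eq]; exact hy x
    obtain ⟨b, hb⟩ := ih (B.restrict W) ⟨fun x y => hS.eq (x : V) (y : V)⟩ hBW ⟨⟨x, hx⟩, hxx⟩ (by omega)
    let f : Fin (n + 1 + 1) → V := Fin.cons v fun i => (b i : V)
    have hspan : ⊤ ≤ Submodule.span F (Set.range f) := by
      intro x _
      have h : (⟨_, hdecomp x⟩ : W) ∈ Submodule.span F (Set.range b) := b.mem_span _
      have hle : Submodule.map W.subtype (Submodule.span F (Set.range b)) ≤
          Submodule.span F (Set.range f) := by
        rw [Submodule.map_span, Submodule.span_le]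
        rintro _ ⟨_, ⟨i, rfl⟩, rfl⟩
        exact Submodule.subset_span ⟨i.succ, by simp [f]⟩
      have := add_mem (hle ⟨_, h, rfl⟩)
        (Submodule.smul_mem _ (B v x) (Submodule.subset_span ⟨0, rfl⟩ : f 0 ∈ Submodule.span F (Set.range f)))
      simpa [f] using this
    refine ⟨basisOfTopLeSpanOfCardEqFinrank f hspan (by rw [Fintype.card_fin, hn]), fun i j => ?_⟩
    rw [coe_basisOfTopLeSpanOfCardEqFinrank]
    induction i using Fin.cases with
    | zero =>
      induction j using Fin.cases with
      | zero => simpa [f] using hvv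
      | succ j =>
        have h0 : B v (b j : V) = 0 := (b j).2
        simpa [f, (Fin.succ_ne_zero j).symm] using h0
    | succ i =>
      induction j using Fin.cases with
      | zero => simpa [f, Fin.succ_ne_zero] using hperp (b i)
      | succ j => simpa [f] using hb i j

end CfsgLib.QuadStd
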