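import Cfsg.Agent.QuadStd.Split
import Mathlib.LinearAlgebra.Matrix.BilinearForm
import Mathlib.LinearAlgebra.Matrix.Basis
import Mathlib.LinearAlgebra.Matrix.NonsingularInverse

/-!
Gram matrices of polar forms and discriminants.
-/

set_option autoImplicit false
set_option linter.style.haveILetI false

namespace CfsgLib.QuadStd

open QuadraticMap CfsgLib.Forms CfsgLib.Quad

variable {F : Type*} [Field F] {V W : Type*} [AddCommGroup V] [Module F V] [AddCommGroup W] [Module F W]

/-- The polar Gram matrix of a family of vectors. -/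
def gram {ι : Type*} (Q : QuadraticForm F V) (v : ι → V) : Matrix ι ι F :=
  Matrix.of fun i j => polar Q (v i) (v j)

theorem gram_family {ι : Type*} [Fintype ι] [DecidableEq ι] (Q : QuadraticForm F V)
    (c : Module.Basis ι F V) (v : ι → V) :
    gram Q v = (c.toMatrix v).transpose * gram Q c * c.toMatrix v := by
  ext i j
  show polarBilin Q (v i) (v j) = _
  conv_lhs => rw [← c.sum_toMatrix_smul_self v i, ← c.sum_toMatrix_smul_self v j]
  simp only [map_sum, LinearMap.coe_sum, Finset.sum_apply, map_smul, LinearMap.smul_apply,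
    Matrix.mul_apply, Matrix.transpose_apply, gram, Matrix.of_apply, polarBilin_apply_apply,
    smul_eq_mul, Finset.sum_mul]
  refine Finset.sum_congr rfl fun k _ => ?_
  rw [Finset.mul_sum]
  exact Finset.sum_congr rfl fun l _ => by ring

theorem det_gram_basis {ι : Type*} [Fintype ι] [DecidableEq ι] (Q : QuadraticForm F V)
    (b c : Module.Basis ι F V) : ∃ t : F, t ≠ 0 ∧ (gram Q b).det = t ^ 2 * (gram Q c).det := by
  refine ⟨(c.toMatrix b).det, fun e => ?_, ?_⟩
  · have := congrArg Matrix.det (c.toMatrix_mul_toMatrix_flip b)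
    rw [Matrix.det_mul, e, zero_mul, Matrix.det_one] at this
    exact zero_ne_one this
  · rw [gram_family Q c b, Matrix.det_mul, Matrix.det_mul, Matrix.det_transpose]; ring

theorem det_gram_ne_zero {ι : Type*} [Fintype ι] [DecidableEq ι] {Q : QuadraticForm F V}
    (hQ : (polarBilin Q).Nondegenerate) (b : Module.Basis ι F V) : (gram Q b).det ≠ 0 := by
  intro h
  obtain ⟨x, hx0, hx⟩ := Matrix.exists_vecMul_eq_zero_iff.mpr h
  refine hx0 ?_
  have h1 : ∑ i, x i • b i = 0 := hQ.1 _ fun y => by
    rw [← b.sum_repr y, map_sum]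
    refine Finset.sum_eq_zero fun j _ => ?_
    rw [map_smul]
    have := congrFun hx j
    simp only [Matrix.vecMul, dotProduct, gram, Matrix.of_apply, Pi.zero_apply] at this
    simp only [map_sum, map_smul, LinearMap.coe_sum, Finset.sum_apply, LinearMap.smul_apply,
      polarBilin_apply_apply, smul_eq_mul, this, mul_zero]
  funext i
  exact Fintype.linearIndependent_iff.mp b.linearIndependent x h1 i

/-- Discriminants along a similarity. -/
theorem det_gram_map {ι : Type*} [Fintype ι] [DecidableEq ι] {Q : QuadraticForm F V}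
    {Q' : QuadraticForm F W} (g : V ≃ₗ[F] W) (s : F) (hg : ∀ v, Q' (g v) = s * Q v)
    (b : Module.Basis ι F V) (c : Module.Basis ι F W) :
    ∃ t : F, t ≠ 0 ∧ s ^ Fintype.card ι * (gram Q b).det = t ^ 2 * (gram Q' c).det := by
  obtain ⟨t, ht, h⟩ := det_gram_basis Q' (b.map g) c
  refine ⟨t, ht, ?_⟩
  rw [← h, ← Matrix.det_smul]
  congr 1
  ext i j
  simp only [Matrix.smul_apply, gram, Matrix.of_apply, Module.Basis.map_apply, polar, ← map_add, hg,
    smul_eq_mul]
  ring

theorem isSquare_mul_sq_iff {t d : F} (ht : t ≠ 0) : IsSquare (t ^ 2 * d) ↔ IsSquare d := by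
  constructor
  · rintro ⟨r, hr⟩
    exact ⟨r / t, by field_simp; linear_combination hr⟩
  · rintro ⟨r, rfl⟩
    exact ⟨t * r, by ring⟩

theorem isSquare_det_iff {ι κ : Type*} [Fintype ι] [DecidableEq ι] [Fintype κ] [DecidableEq κ]
    (Q : QuadraticForm F V) (b : Module.Basis ι F V) (c : Module.Basis κ F V) :
    IsSquare (gram Q b).det ↔ IsSquare (gram Q c).det := by
  let e : κ ≃ ι := c.indexEquiv b
  obtain ⟨t, ht, h⟩ := det_gram_basis Q (b.reindex e.symm) c
  have h1 : (gram Q (b.reindex e.symm)).det = (gram Q b).det := by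
    rw [show gram Q (b.reindex e.symm) = (gram Q b).submatrix e e from by
      ext i j; simp [gram], Matrix.det_submatrix_equiv_self]
  rw [← h1, h, isSquare_mul_sq_iff ht]

end CfsgLib.QuadStd
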