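import Cfsg.Agent.Quad.Orders
import Cfsg.Agent.QuadStd.Two
import Mathlib.GroupTheory.Index
import Mathlib.Data.Fintype.Perm

/-!
The orthogonal group of plus type in dimension four over the field with two elements.
-/

set_option autoImplicit false
set_option linter.style.haveILetI false

namespace CfsgLib.QuadStd.OFour

open CfsgLib.Quad Matrix

/-- The space. -/
abbrev V4 := Fin 2 ⊕ Fin 2 → ZMod 2

/-- The isometry group. -/
abbrev G4 := ↥(Cfsg.isometryGroup (ZMod 2) (Cfsg.quadFormPlus 2 (ZMod 2)))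

/-- A vector from coordinates. -/
def vec (x0 x1 y0 y1 : ZMod 2) : V4 := Sum.elim ![x0, x1] ![y0, y1]

/-- The anisotropic vectors of the first plane. -/
def fstV : Fin 3 → V4 := ![vec 1 0 1 0, vec 1 1 0 1, vec 0 1 1 1]

/-- The anisotropic vectors of the second plane. -/
def sndV : Fin 3 → V4 := ![vec 1 1 1 0, vec 1 0 1 1, vec 0 1 0 1]

/-- Polar form. -/
def bil (u v : V4) : ZMod 2 :=
  u (.inl 0) * v (.inr 0) + u (.inr 0) * v (.inl 0) + u (.inl 1) * v (.inr 1) + u (.inr 1) * v (.inl 1)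

/-- Permute the vectors of an anisotropic plane, fixing its perpendicular plane. -/
def act (w : Fin 3 → V4) (σ : Equiv.Perm (Fin 3)) (v : V4) : V4 :=
  v + bil v (w 1) • w 0 + bil v (w 0) • w 1 + bil v (w 1) • w (σ 0) + bil v (w 0) • w (σ 1)

/-- Interchange the planes. -/
def swapV (v : V4) : V4 :=
  bil v (fstV 1) • sndV 0 + bil v (fstV 0) • sndV 1 + bil v (sndV 1) • fstV 0 + bil v (sndV 0) • fstV 1

/-- Matrix of a map. -/
def toMat (f : V4 → V4) : Matrix (Fin 2 ⊕ Fin 2) (Fin 2 ⊕ Fin 2) (ZMod 2) :=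
  Matrix.of fun i j => f (Pi.single j 1) i

theorem fst_one : toMat (act fstV 1) = 1 := by decide +kernel
theorem snd_one : toMat (act sndV 1) = 1 := by decide +kernel
theorem fst_mul : ∀ σ τ, toMat (act fstV (σ * τ)) = toMat (act fstV σ) * toMat (act fstV τ) := by
  decide +kernel
theorem snd_mul : ∀ σ τ, toMat (act sndV (σ * τ)) = toMat (act sndV σ) * toMat (act sndV τ) := by
  decide +kernel
theorem fst_pres : ∀ σ, ∀ v : V4,
    Cfsg.quadFormPlus 2 (ZMod 2) (toMat (act fstV σ) *ᵥ v) = Cfsg.quadFormPlus 2 (ZMod 2) v := by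
  decide +kernel
theorem snd_pres : ∀ σ, ∀ v : V4,
    Cfsg.quadFormPlus 2 (ZMod 2) (toMat (act sndV σ) *ᵥ v) = Cfsg.quadFormPlus 2 (ZMod 2) v := by
  decide +kernel
theorem comm_mat : ∀ σ τ, toMat (act fstV σ) * toMat (act sndV τ) =
    toMat (act sndV τ) * toMat (act fstV σ) := by decide +kernel
theorem inj_mat : ∀ σ τ, toMat (act fstV σ) * toMat (act sndV τ) = 1 → σ = 1 ∧ τ = 1 := by
  decide +kernel
theorem swap_sq : toMat swapV * toMat swapV = 1 := by decide +kernel
theorem swap_pres : ∀ v : V4,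
    Cfsg.quadFormPlus 2 (ZMod 2) (toMat swapV *ᵥ v) = Cfsg.quadFormPlus 2 (ZMod 2) v := by decide +kernel
theorem swap_conj : ∀ σ, toMat swapV * toMat (act fstV σ) * toMat swapV = toMat (act sndV σ) := by
  decide +kernel

/-- The first factor. -/
def homA : Equiv.Perm (Fin 3) →* G4 :=
  (MonoidHom.toHomUnits { toFun := fun σ => toMat (act fstV σ), map_one' := fst_one,
                          map_mul' := fst_mul }).codRestrict _ fun σ => fun v _ => fst_pres σ v

/-- The second factor. -/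
def homB : Equiv.Perm (Fin 3) →* G4 :=
  (MonoidHom.toHomUnits { toFun := fun σ => toMat (act sndV σ), map_one' := snd_one,
                          map_mul' := snd_mul }).codRestrict _ fun σ => fun v _ => snd_pres σ v

/-- The interchange. -/
def swapG : G4 := ⟨⟨toMat swapV, toMat swapV, swap_sq, swap_sq⟩, fun v _ => swap_pres v⟩

theorem homA_comm (σ τ : Equiv.Perm (Fin 3)) : Commute (homA σ) (homB τ) :=
  Subtype.ext (Units.ext (comm_mat σ τ))

/-- The product map. -/
def homAB : Equiv.Perm (Fin 3) × Equiv.Perm (Fin 3) →* G4 :=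
  MonoidHom.noncommCoprod homA homB fun σ τ => homA_comm σ τ

theorem homAB_injective : Function.Injective homAB := by
  rw [injective_iff_map_eq_one]
  rintro ⟨σ, τ⟩ h
  obtain ⟨h1, h2⟩ := inj_mat σ τ (congrArg (fun g : G4 => (g.1 : Matrix (Fin 2 ⊕ Fin 2) (Fin 2 ⊕ Fin 2) (ZMod 2))) h)
  exact Prod.ext h1 h2

theorem card_G4 : Nat.card G4 = 72 := by
  show Nat.card ↥(Cfsg.isometryGroup (ZMod 2) (Cfsg.quadFormPlus 2 (ZMod 2))) = 72
  rw [← plusQ_coe, card_isometryGroup (plusQ (F := ZMod 2) 2) (plusQ (F := ZMod 2) 2) (LinearEquiv.refl _ _) fun v => rfl]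
  have h := card_oGroup_plus (F := ZMod 2) (Nat.card_zmod 2) 1
  norm_num at h
  exact_mod_cast h

theorem main : Nat.card G4 = 72 ∧
    ∃ (A B : Subgroup G4),
      Nonempty (↥A ≃* Equiv.Perm (Fin 3)) ∧ Nonempty (↥B ≃* Equiv.Perm (Fin 3)) ∧ A ⊓ B = ⊥ ∧
      (∀ a ∈ A, ∀ b ∈ B, a * b = b * a) ∧
      (A ⊔ B).index = 2 ∧ ∃ g : G4, A.map (MulAut.conj g).toMonoidHom = B := by
  have hA : Function.Injective homA := fun a b h => congrArg Prod.fst
    (homAB_injective (a₁ := (a, 1)) (a₂ := (b, 1)) (by simp [homAB, h]))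
  have hB : Function.Injective homB := fun a b h => congrArg Prod.snd
    (homAB_injective (a₁ := (1, a)) (a₂ := (1, b)) (by simp [homAB, h]))
  refine ⟨card_G4, homA.range, homB.range, ⟨(MonoidHom.ofInjective hA).symm⟩,
    ⟨(MonoidHom.ofInjective hB).symm⟩, ?_, ?_, ?_, swapG, ?_⟩
  · rw [eq_bot_iff]
    rintro _ ⟨⟨σ, rfl⟩, τ, hτ⟩
    have h : homAB (σ⁻¹, τ) = 1 := by
      rw [homAB, MonoidHom.noncommCoprod_apply, map_inv, hτ, inv_mul_cancel]
    have h1 : σ⁻¹ = 1 := congrArg Prod.fst ((injective_iff_map_eq_one homAB).mp homAB_injective _ h)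
    rw [Subgroup.mem_bot, inv_eq_one.mp h1, map_one]
  · rintro _ ⟨σ, rfl⟩ _ ⟨τ, rfl⟩
    exact homA_comm σ τ
  · have h : homA.range ⊔ homB.range = homAB.range := (MonoidHom.noncommCoprod_range homA homB _).symm
    have hc : Nat.card homAB.range = 36 := by
      rw [← Nat.card_congr (MonoidHom.ofInjective homAB_injective).toEquiv, Nat.card_prod, Nat.card_perm,
        Nat.card_fin]
      rfl
    have := Subgroup.card_mul_index homAB.range
    rw [hc, card_G4] at this
    rw [h]; omega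
  · rw [MonoidHom.map_range]
    refine congrArg MonoidHom.range (MonoidHom.ext fun σ => Subtype.ext (Units.ext ?_))
    exact swap_conj σ

end CfsgLib.QuadStd.OFour
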